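import Mathlib.LinearAlgebra.Charpoly.BaseChange
import Mathlib.LinearAlgebra.Eigenspace.Charpoly
import Mathlib.RingTheory.Norm.Defs
import Mathlib.RingTheory.Valuation.LocalSubring
import Mathlib.FieldTheory.IsAlgClosed.AlgebraicClosure

/-!
# The norm of a finite algebra over a field and its points in an algebraically closed field
-/

set_option autoImplicit false
universe u

open TensorProduct

namespace Groth.Agent.AmpleLib.GenNorm

variable {K B Ω : Type u} [Field K] [CommRing B] [Algebra K B] [Module.Finite K B] [Field Ω]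
  [Algebra K Ω] [IsAlgClosed Ω]

/-- A root of the characteristic polynomial of multiplication by `b` is a value of `b` at an
`Ω`-point. -/
theorem exists_algHom_eq (b : B) {l : Ω}
    (hl : ((Algebra.lmul K B b).baseChange Ω).charpoly.IsRoot l) :
    ∃ χ : B →ₐ[K] Ω, χ b = l := by
  obtain ⟨v, hv⟩ := ((Module.End.hasEigenvalue_iff_isRoot_charpoly _ l).mpr hl).exists_hasEigenvector
  obtain ⟨hv1, hv2⟩ := hv
  rw [Module.End.mem_eigenspace_iff] at hv1
  let c : Ω ⊗[K] B := 1 ⊗ₜ b - algebraMap Ω (Ω ⊗[K] B) l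
  have hmul : ∀ w : Ω ⊗[K] B, (Algebra.lmul K B b).baseChange Ω w = (1 ⊗ₜ b) * w := by
    intro w
    induction w with
    | zero => simp
    | tmul a x => simp [LinearMap.baseChange_tmul]
    | add x y hx hy => rw [map_add, hx, hy, mul_add]
  have hc : ¬ IsUnit c := fun h => hv2 (h.mul_right_eq_zero.mp
    (by rw [sub_mul, ← hmul, hv1, Algebra.smul_def, sub_self]))
  obtain ⟨M, hM, hcM⟩ := exists_max_ideal_of_mem_nonunits hc
  letI := Ideal.Quotient.field M
  haveI : Module.Finite Ω ((Ω ⊗[K] B) ⧸ M) :=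
    Module.Finite.of_surjective (Ideal.Quotient.mkₐ Ω M).toLinearMap (Ideal.Quotient.mk_surjective)
  let e := AlgEquiv.ofBijective (Algebra.ofId Ω ((Ω ⊗[K] B) ⧸ M))
    IsAlgClosed.algebraMap_bijective_of_isIntegral
  refine ⟨((e.symm.toAlgHom.comp (Ideal.Quotient.mkₐ Ω M)).restrictScalars K).comp
    Algebra.TensorProduct.includeRight, ?_⟩
  show e.symm (Ideal.Quotient.mk M (1 ⊗ₜ b)) = l
  rw [Ideal.Quotient.mk_eq_mk_iff_sub_mem _ _ |>.mpr hcM, Ideal.Quotient.mk_algebraMap]
  exact e.symm_apply_apply l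

/-- The norm is the product of the values at `Ω`-points (with multiplicity). -/
theorem exists_prod_eq_norm (b : B) : ∃ s : Multiset Ω, Multiset.card s = Module.finrank K B ∧
    algebraMap K Ω (Algebra.norm K b) = s.prod ∧ ∀ l ∈ s, ∃ χ : B →ₐ[K] Ω, χ b = l := by
  refine ⟨((Algebra.lmul K B b).baseChange Ω).charpoly.roots, ?_, ?_, fun l hl => ?_⟩
  · rw [Polynomial.splits_iff_card_roots.mp (IsAlgClosed.splits _), LinearMap.charpoly_natDegree,
      Module.finrank_baseChange]
  · rw [Algebra.norm_apply, ← LinearMap.det_baseChange,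
      Module.End.det_eq_prod_roots_charpoly_of_splits (IsAlgClosed.splits _)]
  · exact exists_algHom_eq b (Polynomial.isRoot_of_mem_roots hl)

theorem norm_mem (S : Subring Ω) (b : B) (h : ∀ χ : B →ₐ[K] Ω, χ b ∈ S) :
    algebraMap K Ω (Algebra.norm K b) ∈ S := by
  obtain ⟨s, -, hs, hroot⟩ := exists_prod_eq_norm (K := K) (Ω := Ω) b
  rw [hs]
  exact S.multiset_prod_mem s fun l hl => by
    obtain ⟨χ, rfl⟩ := hroot l hl
    exact h χ

theorem norm_mem_nonunits (V : ValuationSubring Ω) (b : B) (hpos : 0 < Module.finrank K B)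
    (h : ∀ χ : B →ₐ[K] Ω, χ b ∈ V.nonunits) :
    algebraMap K Ω (Algebra.norm K b) ∈ V.nonunits := by
  obtain ⟨s, hcard, hs, hroot⟩ := exists_prod_eq_norm (K := K) (Ω := Ω) b
  rw [hs, ValuationSubring.mem_nonunits_iff, map_multiset_prod]
  have hlt : ∀ l ∈ s, V.valuation l < 1 := fun l hl => by
    obtain ⟨χ, rfl⟩ := hroot l hl
    exact (ValuationSubring.mem_nonunits_iff _).mp (h χ)
  obtain ⟨l, hl⟩ := Multiset.card_pos_iff_exists_mem.mp (hcard ▸ hpos)
  obtain ⟨t, rfl⟩ := Multiset.exists_cons_of_mem hl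
  rw [Multiset.map_cons, Multiset.prod_cons]
  refine (mul_le_of_le_one_right' ?_).trans_lt (hlt l hl)
  exact Multiset.prod_induction (fun z => z ≤ (1 : V.ValueGroup)) _
    (fun a b ha hb => mul_le_one' ha hb) le_rfl (fun x hx => by
    obtain ⟨y, hy, rfl⟩ := Multiset.mem_map.mp hx
    exact (hlt y (Multiset.mem_cons_of_mem hy)).le)

end Groth.Agent.AmpleLib.GenNorm
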