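import Groth.Agent.AmpleLib.GenNorm.Basic
import Groth.Agent.AmpleLib.NormDesc
import Mathlib.RingTheory.TensorProduct.IsBaseChangeFree
import Mathlib.Algebra.Category.Ring.Constructions
import Mathlib.AlgebraicGeometry.Morphisms.Affine

/-!
# Norms exist where the direct image of the structure sheaf is free
-/

set_option autoImplicit false
set_option linter.style.haveILetI false
universe u

open CategoryTheory CategoryTheory.Limits AlgebraicGeometry TopologicalSpace

noncomputable section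

namespace Groth.Agent.AmpleLib.GenNorm

open Groth.Agent.QCoh

variable {X X' : Scheme.{u}} (g : X' ⟶ X) [IsFinite g] {η : X} {W : X.Opens}

lemma ι_appLE_top (U : X.Opens) (h : (⊤ : (U : Scheme.{u}).Opens) ≤ U.ι ⁻¹ᵁ U) :
    U.ι.appLE U ⊤ h = U.topIso.inv := by
  simp only [Scheme.Hom.appLE, Scheme.Opens.ι_app, Scheme.Opens.topIso_inv]
  exact (X.presheaf.map_comp _ _).symm.trans rfl

theorem isPushout_fib (hW : IsAffineOpen W) (hη : η ∈ W) :
    IsPushout (g.app W) (X.evaluation W η hη) (CommRingCat.ofHom (toFib g η W hη))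
      (CommRingCat.ofHom (scal g η)) := by
  have hr : Set.range (X.fromSpecResidueField η) ⊆ Set.range W.ι := by
    rintro _ ⟨y, rfl⟩
    rw [Scheme.Opens.range_ι]
    rwa [X.fromSpecResidueField_apply η y]
  have hl : Set.range (g.fiberι η) ⊆ Set.range (g ⁻¹ᵁ W).ι := by
    rintro _ ⟨y, rfl⟩
    rw [Scheme.Opens.range_ι]
    exact fiberι_mem g η hη trivial
  let r := IsOpenImmersion.lift W.ι (X.fromSpecResidueField η) hr
  let l := IsOpenImmersion.lift (g ⁻¹ᵁ W).ι (g.fiberι η) hl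
  have hrι : r ≫ W.ι = X.fromSpecResidueField η := IsOpenImmersion.lift_fac _ _ _
  have hlι : l ≫ (g ⁻¹ᵁ W).ι = g.fiberι η := IsOpenImmersion.lift_fac _ _ _
  have hpb : IsPullback l (g.fiberToSpecResidueField η) (g ∣_ W) r := by
    refine IsPullback.of_right (h₁₂ := (g ⁻¹ᵁ W).ι) (v₁₃ := g) (h₂₂ := W.ι) ?_ ?_
      (isPullback_morphismRestrict g W).flip
    · rw [hlι, hrι]; exact IsPullback.of_hasPullback _ _
    · rw [← cancel_mono W.ι, Category.assoc, Category.assoc, morphismRestrict_ι, ← Category.assoc,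
        hlι, hrι]
      exact g.fiber_fac η
  haveI : IsAffine W.toScheme := hW
  haveI : IsAffine (g ⁻¹ᵁ W).toScheme := hW.preimage g
  refine (isPushout_appTop_of_isPullback hpb).of_iso W.topIso (g ⁻¹ᵁ W).topIso
    (Scheme.ΓSpecIso (X.residueField η)) (Iso.refl _) ?_ ?_ ?_ ?_
  · rw [← Iso.eq_comp_inv, Category.assoc, ← Iso.inv_comp_eq,
      ← ι_appLE_top W (by rw [Scheme.Opens.ι_preimage_self]),
      ← ι_appLE_top (g ⁻¹ᵁ W) (by rw [Scheme.Opens.ι_preimage_self]),
      show (g ∣_ W).appTop = (g ∣_ W).appLE ⊤ ⊤ le_top by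
        simp [Scheme.Hom.appLE] <;> exact (Category.comp_id _).symm,
      Scheme.Hom.app_eq_appLE, Scheme.Hom.appLE_comp_appLE, Scheme.Hom.appLE_comp_appLE]
    simp only [morphismRestrict_ι]
  · rw [← Iso.inv_comp_eq, ← Category.assoc, ← Iso.eq_comp_inv,
      ← ι_appLE_top W (by rw [Scheme.Opens.ι_preimage_self]),
      show r.appTop = r.appLE ⊤ ⊤ le_top by simp [Scheme.Hom.appLE], Scheme.Hom.appLE_comp_appLE]
    simp only [hrι]
    exact fromSpecResidueField_appLE η hη _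
  · rw [Iso.refl_hom, Category.comp_id, ← Iso.inv_comp_eq,
      ← ι_appLE_top (g ⁻¹ᵁ W) (by rw [Scheme.Opens.ι_preimage_self]),
      show l.appTop = l.appLE ⊤ ⊤ le_top by simp [Scheme.Hom.appLE], Scheme.Hom.appLE_comp_appLE]
    simp only [hlι]
    rfl
  · rw [Iso.refl_hom, Category.comp_id]
    show _ = (Scheme.ΓSpecIso (X.residueField η)).hom ≫ (Scheme.ΓSpecIso (X.residueField η)).inv ≫
      (g.fiberToSpecResidueField η).appTop
    rw [Iso.hom_inv_id_assoc]

/-- Over an affine frame the norm is the norm of the free algebra. -/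
theorem evaluation_nrm (hW : IsAffineOpen W) (hη : η ∈ W) {d : ℕ} {b : Fin d → Γ(pushO g, W)}
    (hb : LFFrame.IsFrame (pushO g) W b) (f : Γ(X', g ⁻¹ᵁ W)) :
    X.evaluation W η hη (nrm g W f) = nAt g η W hη f := by
  classical
  obtain ⟨B, -⟩ := exists_basis_of_isFrame hb le_rfl
  letI := (g.app W).hom.toAlgebra
  letI := (X.evaluation W η hη).hom.toAlgebra
  letI := fibAlg g η
  letI := (toFib g η W hη).toAlgebra
  letI : Algebra Γ(X, W) Γ(g.fiber η, ⊤) := ((scal g η).comp (X.evaluation W η hη).hom).toAlgebra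
  haveI : IsScalarTower Γ(X, W) (X.residueField η) Γ(g.fiber η, ⊤) := IsScalarTower.of_algebraMap_eq' rfl
  haveI : IsScalarTower Γ(X, W) Γ(X', g ⁻¹ᵁ W) Γ(g.fiber η, ⊤) :=
    IsScalarTower.of_algebraMap_eq fun c => (toFib_app g η hη c).symm
  have hP : Algebra.IsPushout Γ(X, W) (X.residueField η) Γ(X', g ⁻¹ᵁ W) Γ(g.fiber η, ⊤) :=
    (CommRingCat.isPushout_iff_isPushout).mp (isPushout_fib g hW hη).flip
  let B' := hP.out.basis B
  show algebraMap Γ(X, W) (X.residueField η) (Algebra.norm Γ(X, W) f) =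
    Algebra.norm (X.residueField η) (algebraMap Γ(X', g ⁻¹ᵁ W) Γ(g.fiber η, ⊤) f)
  rw [Algebra.norm_eq_matrix_det B, Algebra.norm_eq_matrix_det B', RingHom.map_det]
  congr 1
  ext i j
  rw [RingHom.mapMatrix_apply, Matrix.map_apply, Algebra.leftMulMatrix_eq_repr_mul,
    Algebra.leftMulMatrix_eq_repr_mul, ← hP.out.basis_repr_comp_apply B,
    show B' j = _ from hP.out.basis_apply B j]
  simp only [AlgHom.toLinearMap_apply, IsScalarTower.coe_toAlgHom', map_mul]
  rfl

/-- Norms exist on free affine charts. -/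
theorem isNm_nrm (D : ℕ) (hW : IsAffineOpen W) {d : ℕ} {b : Fin d → Γ(pushO g, W)}
    (hb : LFFrame.IsFrame (pushO g) W b) (f : Γ(X', g ⁻¹ᵁ W)) {k : ℕ}
    (hk : ∀ η ∈ gens X, η ∈ W → D / rk g η = k) :
    IsNm g D W f (nrm g W f ^ k) := fun η hη hηW => by
  rw [map_pow, evaluation_nrm g hW hηW hb f, hk η hη hηW]

theorem rk_eq (hW : IsAffineOpen W) (hη : η ∈ W) {d : ℕ} {b : Fin d → Γ(pushO g, W)}
    (hb : LFFrame.IsFrame (pushO g) W b) : rk g η = d := by
  obtain ⟨B, -⟩ := exists_basis_of_isFrame hb le_rfl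
  letI := (g.app W).hom.toAlgebra
  letI := (X.evaluation W η hη).hom.toAlgebra
  letI := fibAlg g η
  letI := (toFib g η W hη).toAlgebra
  letI : Algebra Γ(X, W) Γ(g.fiber η, ⊤) := ((scal g η).comp (X.evaluation W η hη).hom).toAlgebra
  haveI : IsScalarTower Γ(X, W) (X.residueField η) Γ(g.fiber η, ⊤) := IsScalarTower.of_algebraMap_eq' rfl
  haveI : IsScalarTower Γ(X, W) Γ(X', g ⁻¹ᵁ W) Γ(g.fiber η, ⊤) :=
    IsScalarTower.of_algebraMap_eq fun c => (toFib_app g η hη c).symm
  have hP : Algebra.IsPushout Γ(X, W) (X.residueField η) Γ(X', g ⁻¹ᵁ W) Γ(g.fiber η, ⊤) :=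
    (CommRingCat.isPushout_iff_isPushout).mp (isPushout_fib g hW hη).flip
  exact (Module.finrank_eq_card_basis (hP.out.basis B)).trans (Fintype.card_fin d)

end Groth.Agent.AmpleLib.GenNorm

end
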