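import Groth.Agent.AmpleLib.GenNorm.Normal
import Groth.Agent.AmpleLib.GenNorm.Free
import Groth.Agent.AmpleLib.NormDesc

/-!
# Descent of ampleness with norms read at the generic points
-/

set_option autoImplicit false
set_option linter.style.haveILetI false
universe u

open CategoryTheory Limits AlgebraicGeometry Opposite TopologicalSpace

noncomputable section

namespace Groth.Agent.AmpleLib.GenNorm

open Groth.Agent.QCoh Groth.Agent.Props.GenLocus Groth.Agent.Props.GenTensor Groth.Agent.Props.GenProd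
open Groth.Agent.Props.GenPull Groth.Agent.AmpleLib

variable {X X' : Scheme.{u}} (g : X' ⟶ X)

lemma evaluation_rres {V V' : X.Opens} (h : V' ≤ V) {η : X} (hη : η ∈ V') (a : Γ(X, V)) :
    X.evaluation V' η hη (rres h a) = X.evaluation V η (h hη) a := by
  show (X.presheaf.map (homOfLE h).op ≫ X.evaluation V' η hη) a = _
  rw [show X.presheaf.map (homOfLE h).op ≫ X.evaluation V' η hη = X.evaluation V η (h hη) by
    rw [← X.germ_residue, ← X.germ_residue, X.presheaf.germ_res_assoc]]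

/-- Norms exist locally near every point. -/
def HasNm (D : ℕ) : Prop :=
  ∀ (z : X) (V : X.Opens), z ∈ V → ∀ f : Γ(X', g ⁻¹ᵁ V), ∃ (V' : X.Opens) (hle : V' ≤ V)
    (N : Γ(X, V')), z ∈ V' ∧ IsNm g D V' (rres (g.preimage_mono hle) f) N

variable {g} {D : ℕ} {V V' : X.Opens}

lemma IsNm.eq [IsReduced X] {f : Γ(X', g ⁻¹ᵁ V)} {N N' : Γ(X, V)} (h : IsNm g D V f N)
    (h' : IsNm g D V f N') : N = N' :=
  eq_of_evaluation_eq fun η hη hηV => (h η hη hηV).trans (h' η hη hηV).symm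

lemma IsNm.res {f : Γ(X', g ⁻¹ᵁ V)} {N : Γ(X, V)} (h : IsNm g D V f N) (hle : V' ≤ V) :
    IsNm g D V' (rres (g.preimage_mono hle) f) (rres hle N) := fun η hη hηV => by
  rw [evaluation_rres hle hηV, h η hη (hle hηV)]
  exact congrArg (· ^ (D / rk g η)) (nAt_res g η hle hηV f).symm

lemma IsNm.app_mul [IsFinite g] (hD : ∀ η ∈ gens X, rk g η * (D / rk g η) = D) {c : Γ(X, V)}
    {f : Γ(X', g ⁻¹ᵁ V)} {N : Γ(X, V)} (h : IsNm g D V f N) :
    IsNm g D V (g.app V c * f) (c ^ D * N) := fun η hη hηV => by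
  rw [map_mul, map_pow, h η hη hηV, nAt_mul, nAt_app, mul_pow, ← pow_mul, hD η hη]

lemma IsNm.isUnit [IsReduced X] {f f' : Γ(X', g ⁻¹ᵁ V)} {N N' : Γ(X, V)} (h : IsNm g D V f N)
    (h' : IsNm g D V f' N') (e : f * f' = 1) : IsUnit N := by
  refine IsUnit.of_mul_eq_one N' (eq_of_evaluation_eq fun η hη hηV => ?_)
  rw [map_mul, map_one, h η hη hηV, h' η hη hηV, ← mul_pow, ← nAt_mul, e, nAt_one, one_pow]

theorem exists_isNm [IsReduced X] (H : HasNm g D) (f : Γ(X', g ⁻¹ᵁ V)) : ∃ N, IsNm g D V f N := by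
  choose V' hle N hz hN using fun z : V => H z.1 V z.2 f
  obtain ⟨M, hM⟩ := X.sheaf.existsUnique_gluing' V' V (fun z => homOfLE (hle z))
    (fun z hz' => Opens.mem_iSup.mpr ⟨⟨z, hz'⟩, hz _⟩) N (fun i j => by
      refine eq_of_evaluation_eq fun η hη hηV => ?_
      show X.evaluation _ η hηV (rres inf_le_left (N i)) = X.evaluation _ η hηV (rres inf_le_right (N j))
      rw [evaluation_rres, evaluation_rres, hN i η hη hηV.1, hN j η hη hηV.2]
      exact congrArg (· ^ (D / rk g η))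
        ((nAt_res g η (hle i) hηV.1 f).trans (nAt_res g η (hle j) hηV.2 f).symm))
  refine ⟨M, fun η hη hηV => ?_⟩
  have h1 := hN ⟨η, hηV⟩ η hη (hz _)
  rw [← hM.1 ⟨η, hηV⟩] at h1
  refine ((evaluation_rres (hle ⟨η, hηV⟩) (hz _) M).symm.trans h1).trans ?_
  exact congrArg (· ^ (D / rk g η)) (nAt_res g η (hle ⟨η, hηV⟩) (hz ⟨η, hηV⟩) f)

variable (g)

theorem ampleOn_of_pullback [IsFinite g] [Surjective g] [IsReduced X] (H : HasNm g D) (hDpos : 0 < D)
    (hD : ∀ η ∈ gens X, rk g η * (D / rk g η) = D)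
    {L : X.Modules} (hL : PicF.IsInvertible L) {O : X.Opens} (hc : IsCompact (O : Set X))
    (h : AmpleOn ((Scheme.Modules.pullback g).obj L) (g ⁻¹ᵁ O)) : AmpleOn L O := by
  classical
  refine ⟨hc, fun x hx => ?_⟩
  obtain ⟨U, hU, hxU, hUO⟩ := exists_isAffineOpen_mem_and_subset (X := X) (x := x) (U := O) hx
  have hL' := PicCl.isInvertible_pullback g hL
  obtain ⟨n, σ, hEσ, hσU⟩ := exists_superset_on hL' h (E := g ⁻¹' {x})
    (g.finite_preimage_singleton x) (fun y hy => (show g y ∈ O from (show g y = x from hy) ▸ hx))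
    (U := g ⁻¹ᵁ U) (fun y hy => (show g y ∈ U from (show g y = x from hy) ▸ hxU))
  have hcov : ∀ y : O, ∃ (W : X.Opens) (e : Γ(L, W)), y.1 ∈ W ∧ W ≤ O ∧ IsGen L W e := by
    rintro ⟨y, hy⟩
    obtain ⟨W₁, e, hy₁, he⟩ := exists_isGen hL y
    exact ⟨W₁ ⊓ O, res L inf_le_left e, ⟨hy₁, hy⟩, inf_le_right, he.restrict _⟩
  choose W e hyW hWO he using hcov
  obtain ⟨t, ht⟩ := hc.elim_finite_subcover (fun y : O => (W y : Set X)) (fun y => (W y).2)
    fun z hz => Set.mem_iUnion.mpr ⟨⟨z, hz⟩, hyW _⟩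
  have hsub : ∀ z ∈ O, ∃ i : t, z ∈ W i.1 := fun z hz => by
    obtain ⟨y, hy, hzy⟩ := Set.mem_iUnion₂.mp (ht hz)
    exact ⟨⟨y, hy⟩, hzy⟩
  have hgWO : ∀ i : O, g ⁻¹ᵁ W i ≤ g ⁻¹ᵁ O := fun i => g.preimage_mono (hWO i)
  let s : ∀ i : t, Γ(X', g ⁻¹ᵁ W i.1) := fun i => co (n + 1) σ (hgWO i.1) (isGen_pb g (he i.1))
  choose c hc' using fun i : t => exists_isNm H (s i)
  let K := (n + 1) * D
  obtain ⟨m, hm⟩ : ∃ m, K = m + 1 :=
    ⟨K - 1, (Nat.succ_pred_eq_of_pos (Nat.mul_pos n.succ_pos hDpos)).symm⟩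
  obtain ⟨ρ, hρ⟩ := exists_glue (CohB1.tensorPow L K) (U := fun i : t => W i.1) (V := O)
    (fun i => hWO i.1) (fun z hz => Opens.mem_iSup.mpr (hsub z hz))
    (fun i => c i • pw L (e i.1) K) fun i j => by
      set V := W i.1 ⊓ W j.1
      obtain ⟨u, -, hu⟩ := exists_unit_smul ((he i.1).restrict (inf_le_left : V ≤ W i.1))
        ((he j.1).restrict (inf_le_right : V ≤ W j.1))
      have h1 := congrArg (LFFrame.unitSec g L V) hu
      rw [LFFrame.unitSec_smul, LFFrame.unitSec_res, LFFrame.unitSec_res] at h1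
      have h2 : rres (g.preimage_mono (inf_le_left : V ≤ W i.1)) (s i) =
          g.app V (u ^ (n + 1)) * rres (g.preimage_mono (inf_le_right : V ≤ W j.1)) (s j) := by
        simp only [s]
        rw [map_pow, co_res, co_res]
        exact Props.GenExt.co_of_eq_smul _ _ _ _ h1
      have h4 : rres (inf_le_left : V ≤ W i.1) (c i) =
          u ^ K * rres (inf_le_right : V ≤ W j.1) (c j) := by
        refine IsNm.eq ((hc' i).res inf_le_left) ?_
        rw [h2, show u ^ K = (u ^ (n + 1)) ^ D from pow_mul u (n + 1) D]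
        exact ((hc' j).res inf_le_right).app_mul hD
      rw [res_smul, res_smul, res_pw, res_pw, hu, pw_smul, smul_smul, h4]
      exact congrArg (· • _) (mul_comm _ _)
  have hlocρ : ∀ i : t, locus ρ ⊓ W i.1 = X.basicOpen (c i) := fun i =>
    locus_inf (hWO i.1) (isGen_pw (he i.1) K) ρ (hρ i)
  have hlocσ : ∀ i : t, locus σ ⊓ g ⁻¹ᵁ W i.1 = X'.basicOpen (s i) := fun i => locus_inf_eq _ _ σ
  have hle : locus ρ ≤ U := by
    intro z hz
    obtain ⟨i, hzi⟩ := hsub z (locus_le ρ hz)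
    have hz' : z ∈ X.basicOpen (c i) := hlocρ i ▸ ⟨hz, hzi⟩
    obtain ⟨A, hA, hzA, hAW⟩ := exists_isAffineOpen_mem_and_subset (X := X) (x := z) (U := W i.1) hzi
    obtain ⟨η, hη, hηz⟩ := exists_gen_specializes z
    have hηA : η ∈ A := hηz.mem_open A.2 hzA
    have hNm := (hc' i).res hAW η hη hηA
    have hu : IsUnit (X.presheaf.germ A z hzA (rres hAW (c i))) := by
      rw [← X.mem_basicOpen]
      rw [show X.basicOpen (rres hAW (c i)) = A ⊓ X.basicOpen (c i) from Scheme.basicOpen_res _ _ _]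
      exact ⟨hzA, hz'⟩
    have hk : 0 < D / rk g η := Nat.pos_of_ne_zero fun h0 => by
      have := hD η hη; rw [h0, Nat.mul_zero] at this; omega
    obtain ⟨y, hy, hyb⟩ := exists_mem_basicOpen g hηz hA hzA (rres (g.preimage_mono hAW) (s i)) hk
      _ hu ((evS_germ hηz hzA _).trans hNm)
    have hyb' : y ∈ X'.basicOpen (s i) := by
      have h5 : y ∈ (g ⁻¹ᵁ A) ⊓ X'.basicOpen (s i) := by
        rw [← show X'.basicOpen (rres (g.preimage_mono hAW) (s i)) = g ⁻¹ᵁ A ⊓ X'.basicOpen (s i) from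
          Scheme.basicOpen_res _ _ _]
        exact hyb
      exact h5.2
    rw [← hlocσ i] at hyb'
    exact hy ▸ hσU hyb'.1
  have hxρ : x ∈ locus ρ := by
    obtain ⟨i, hxi⟩ := hsub x hx
    have hclosed : IsClosed (g '' ((locus σ : Set X')ᶜ)) := g.isClosedMap _ (locus σ).2.isClosed_compl
    let V : X.Opens := ⟨(W i.1 : Set X) \ g '' ((locus σ : Set X')ᶜ), (W i.1).2.sdiff hclosed⟩
    have hxV : x ∈ V := ⟨hxi, fun ⟨y, hy, hyx⟩ => hy (hEσ hyx)⟩
    have hVW : V ≤ W i.1 := Set.sdiff_subset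
    have hVσ : g ⁻¹ᵁ V ≤ X'.basicOpen (s i) := by
      rw [← hlocσ i]
      intro y hy
      exact ⟨not_not.mp fun hn => hy.2 ⟨y, hn, rfl⟩, hy.1⟩
    have hu0 := RingedSpace.isUnit_res_basicOpen X'.toRingedSpace (s i)
    have hu1 := hu0.map (rres hVσ).hom
    have hu2 : IsUnit (rres (g.preimage_mono hVW) (s i)) :=
      (rres_rres (X'.basicOpen_le (s i)) hVσ (s i)) ▸ hu1
    obtain ⟨f', hf'⟩ := isUnit_iff_exists_inv.mp hu2
    obtain ⟨N', hN'⟩ := exists_isNm H f'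
    have hu3 : IsUnit (rres hVW (c i)) := ((hc' i).res hVW).isUnit hN' hf'
    have h4 : x ∈ X.basicOpen (c i) := by
      have h5 := X.basicOpen_of_isUnit hu3
      rw [Scheme.basicOpen_res, inf_eq_left] at h5
      exact h5 hxV
    rw [← hlocρ i] at h4
    exact h4.1
  suffices key : ∀ (k : ℕ) (ρ' : Γ(CohB1.tensorPow L k, O)), k = m + 1 → x ∈ locus ρ' →
      locus ρ' ≤ U → ∃ (a : ℕ) (τ : Γ(CohB1.tensorPow L (a + 1), O)),
        x ∈ locus τ ∧ IsAffineOpen (locus τ) from key K ρ hm hxρ hle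
  rintro k ρ' rfl h1 h2
  exact ⟨m, ρ', h1, isAffineOpen_locus_of_le hL ρ' hU hUO h2⟩

lemma isFrame_restrict {M : X.Modules} {U A : X.Opens} {d : ℕ} {b : Fin d → Γ(M, U)}
    (hb : LFFrame.IsFrame M U b) (h : A ≤ U) :
    LFFrame.IsFrame M A (fun j => res M h (b j)) := fun V hV => by
  have e1 : LFFrame.comb M (fun j => res M h (b j)) hV = LFFrame.comb M b (hV.trans h) :=
    funext fun a => by simp only [LFFrame.comb, LFFrame.res_res]
  rw [e1]
  exact hb _ _

/-- Frames of a restriction give frames. -/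
lemma exists_frame_of_restrict {M : X.Modules} {T : X.Opens} (hM : FlatMod.IsFinLocFree (M.restrict T.ι))
    {z : X} (hz : z ∈ T) : ∃ (U : X.Opens) (d : ℕ) (b : Fin d → Γ(M, U)),
      z ∈ U ∧ LFFrame.IsFrame M U b := by
  obtain ⟨U', d, b, hzU, hb⟩ := LFFrame.exists_isFrame_of_isFinLocFree hM ⟨z, hz⟩
  refine ⟨T.ι ''ᵁ U', d, b, ⟨⟨z, hz⟩, hzU, rfl⟩, fun V hV => ?_⟩
  have e : T.ι ''ᵁ (T.ι ⁻¹ᵁ V) = V :=
    LFFrame.le_image_preimage (hV.trans (T.ι.image_le_opensRange _ |>.trans_eq T.opensRange_ι))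
  have h1 := hb (T.ι ⁻¹ᵁ V) ((T.ι.preimage_mono hV).trans_eq (T.ι.preimage_image_eq U'))
  have key : ∀ (W : X.Opens) (hW : W ≤ T.ι ''ᵁ U'), W = V →
      Function.Bijective (LFFrame.comb M b hW) → Function.Bijective (LFFrame.comb M b hV) := by
    rintro W hW rfl h; exact h
  refine key _ (e.le.trans hV) e ?_
  have hsm : ∀ a : Fin d → Γ(X, T.ι ''ᵁ (T.ι ⁻¹ᵁ V)),
      LFFrame.comb M b (e.le.trans hV) a =
        LFFrame.comb (M.restrict T.ι) b ((T.ι.preimage_mono hV).trans_eq (T.ι.preimage_image_eq U'))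
          (fun i => (T.ι.appIso (T.ι ⁻¹ᵁ V)).hom (a i)) := by
    intro a
    refine Finset.sum_congr rfl fun i _ => ?_
    refine Eq.trans (congrArg (· • _) ?_) rfl
    exact ((T.ι.appIso (T.ι ⁻¹ᵁ V)).commRingCatIsoToRingEquiv.symm_apply_apply (a i)).symm
  exact (funext hsm) ▸ h1.comp ((Equiv.piCongrRight fun i : Fin d =>
    ((T.ι.appIso (T.ι ⁻¹ᵁ V)).commRingCatIsoToRingEquiv.toEquiv)).bijective)

theorem hasNm_of_normal_or_free [IsFinite g] [IsNoetherian X] [IsReduced X]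
    (hW : ∀ x : X, (IsDomain (X.presheaf.stalk x) ∧ IsIntegrallyClosed (X.presheaf.stalk x)) ∨
      ∃ T : X.Opens, x ∈ T ∧ FlatMod.IsFinLocFree ((pushO g).restrict T.ι)) : HasNm g D := by
  intro z V hz f
  rcases hW z with ⟨h1, h2⟩ | ⟨T, hzT, hT⟩
  · exact exists_isNm_of_normal g D hz f
  · obtain ⟨U, d, b, hzU, hb⟩ := exists_frame_of_restrict hT hzT
    obtain ⟨A, hA, hzA, hAle⟩ := exists_isAffineOpen_mem_and_subset (X := X) (x := z) (U := U ⊓ V) ⟨hzU, hz⟩
    have hb' : LFFrame.IsFrame (pushO g) A (fun j => res (pushO g) (hAle.trans inf_le_left) (b j)) :=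
      isFrame_restrict hb _
    exact ⟨A, hAle.trans inf_le_right, _, hzA, isNm_nrm g D hA hb' _ (k := D / d)
      fun η _ hη => by rw [rk_eq g hA hη hb']⟩

theorem isRelAmple_iff_pullback [IsFinite g] [Surjective g] [IsNoetherian X] [IsReduced X]
    (hW : ∀ x : X, (IsDomain (X.presheaf.stalk x) ∧ IsIntegrallyClosed (X.presheaf.stalk x)) ∨
      ∃ T : X.Opens, x ∈ T ∧ FlatMod.IsFinLocFree ((pushO g).restrict T.ι))
    {Y : Scheme.{u}} (f : X ⟶ Y) [QuasiCompact f] {L : X.Modules} (hL : PicF.IsInvertible L) :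
    RelAmple.IsRelAmple f L ↔
      RelAmple.IsRelAmple (g ≫ f) ((Scheme.Modules.pullback g).obj L) := by
  have hL' := PicCl.isInvertible_pullback g hL
  have hfin : (gens X).Finite := genericPoints.finite NoetherianSpace.finite_irreducibleComponents
  let D := ∏ η ∈ hfin.toFinset, rk g η
  have hD : ∀ η ∈ gens X, rk g η * (D / rk g η) = D := fun η hη =>
    Nat.mul_div_cancel' (Finset.dvd_prod_of_mem _ (hfin.mem_toFinset.mpr hη))
  have hDpos : 0 < D := Finset.prod_pos fun η _ => rk_pos g η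
  rw [isRelAmple_iff, isRelAmple_iff]
  refine ⟨fun ⟨_, _, h⟩ => ⟨inferInstance, hL', fun V => ?_⟩,
    fun ⟨_, _, h⟩ => ⟨inferInstance, hL, fun V => ?_⟩⟩
  · rw [Scheme.Hom.comp_preimage]
    refine ampleOn_pullback_of_qa hL g le_rfl (h V) fun W hW hWle => ?_
    rw [inf_eq_left.mpr (g.preimage_mono hWle)]
    exact isQuasiAffine_of_isAffineOpen (hW.preimage g)
  · refine ampleOn_of_pullback g (D := D) (hasNm_of_normal_or_free g hW) hDpos hD hL
      (f.isCompact_preimage V.2.isCompact) ?_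
    rw [← Scheme.Hom.comp_preimage]
    exact h V

end Groth.Agent.AmpleLib.GenNorm

end
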