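import Groth.Agent.AmpleLib.GenNorm.Alg
import Mathlib.AlgebraicGeometry.Fiber
import Mathlib.AlgebraicGeometry.Morphisms.Finite
import Mathlib.AlgebraicGeometry.Properties
import Mathlib.AlgebraicGeometry.ResidueField
import Mathlib.AlgebraicGeometry.Noetherian

/-!
# Norms along a finite surjective morphism, read at the generic points
-/

set_option autoImplicit false
universe u

open CategoryTheory CategoryTheory.Limits AlgebraicGeometry TopologicalSpace

noncomputable section

namespace Groth.Agent.AmpleLib.GenNorm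

variable {X X' : Scheme.{u}} (g : X' ⟶ X)

/-- The generic points of the irreducible components. -/
def gens (X : Scheme.{u}) : Set X := genericPoints X

/-- Every point is a specialization of a generic point. -/
theorem exists_gen_specializes (x : X) : ∃ η ∈ gens X, η ⤳ x := by
  let C : irreducibleComponents X :=
    ⟨irreducibleComponent x, irreducibleComponent_mem_irreducibleComponents x⟩
  refine ⟨(genericPoints.ofComponent C).1, (genericPoints.ofComponent C).2, ?_⟩
  exact (genericPoints.isGenericPoint_ofComponent C).specializes mem_irreducibleComponent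

variable (η : X)

/-- The scalars of the fibre. -/
def scal : X.residueField η →+* Γ(g.fiber η, ⊤) :=
  ((Scheme.ΓSpecIso (X.residueField η)).inv ≫ (g.fiberToSpecResidueField η).appTop).hom

@[reducible] def fibAlg : Algebra (X.residueField η) Γ(g.fiber η, ⊤) := (scal g η).toAlgebra

lemma fiberι_mem {V : X.Opens} (hη : η ∈ V) : (⊤ : (g.fiber η).Opens) ≤ g.fiberι η ⁻¹ᵁ (g ⁻¹ᵁ V) := by
  intro y _
  show g (g.fiberι η y) ∈ V
  have : g.fiberι η y ∈ Set.range (g.fiberι η) := ⟨y, rfl⟩
  rw [g.range_fiberι] at this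
  rwa [show g (g.fiberι η y) = η from this]

/-- Functions over an open containing `η`, on the fibre. -/
def toFib (V : X.Opens) (hη : η ∈ V) : Γ(X', g ⁻¹ᵁ V) →+* Γ(g.fiber η, ⊤) :=
  ((g.fiberι η).appLE (g ⁻¹ᵁ V) ⊤ (fiberι_mem g η hη)).hom

lemma fromSpecResidueField_appLE {V : X.Opens} (hη : η ∈ V)
    (h : (⊤ : (Spec (X.residueField η)).Opens) ≤ X.fromSpecResidueField η ⁻¹ᵁ V) :
    (X.fromSpecResidueField η).appLE V ⊤ h =
      X.evaluation V η hη ≫ (Scheme.ΓSpecIso (X.residueField η)).inv := by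
  have h1 : (⊤ : (Spec (X.residueField η)).Opens) ≤
      Spec.map (X.residue η) ⁻¹ᵁ (X.fromSpecStalk η ⁻¹ᵁ V) := h
  show (Spec.map (X.residue η) ≫ X.fromSpecStalk η).appLE V ⊤ h1 = _
  rw [Scheme.Hom.comp_appLE, Scheme.fromSpecStalk_app hη]
  simp only [Category.assoc, Scheme.Hom.map_appLE]
  rw [show (Spec.map (X.residue η)).appLE ⊤ ⊤ le_top = (Spec.map (X.residue η)).appTop by
    simp [Scheme.Hom.appLE]]
  rw [← Scheme.ΓSpecIso_inv_naturality, ← Category.assoc, X.germ_residue]

lemma toFib_app {V : X.Opens} (hη : η ∈ V) (c : Γ(X, V)) :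
    toFib g η V hη (g.app V c) = scal g η (X.evaluation V η hη c) := by
  have h0 : (⊤ : (Spec (X.residueField η)).Opens) ≤ X.fromSpecResidueField η ⁻¹ᵁ V := fun y _ => by
    show X.fromSpecResidueField η y ∈ V
    rwa [X.fromSpecResidueField_apply η y]
  have key : g.app V ≫ (g.fiberι η).appLE (g ⁻¹ᵁ V) ⊤ (fiberι_mem g η hη) =
      X.evaluation V η hη ≫ (Scheme.ΓSpecIso (X.residueField η)).inv ≫
        (g.fiberToSpecResidueField η).appTop := by
    rw [Scheme.Hom.app_eq_appLE, Scheme.Hom.appLE_comp_appLE]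
    simp only [g.fiber_fac η]
    rw [← Scheme.Hom.appLE_comp_appLE (g.fiberToSpecResidueField η) (X.fromSpecResidueField η)
      V ⊤ ⊤ h0 le_top, fromSpecResidueField_appLE η hη, Category.assoc]
    congr 2
    simp [Scheme.Hom.appLE]
  exact ConcreteCategory.congr_hom key c

lemma toFib_res {V V' : X.Opens} (h : V' ≤ V) (hη : η ∈ V') (f : Γ(X', g ⁻¹ᵁ V)) :
    toFib g η V' hη (X'.presheaf.map (homOfLE (g.preimage_mono h)).op f) = toFib g η V (h hη) f := by
  show (X'.presheaf.map _ ≫ (g.fiberι η).appLE (g ⁻¹ᵁ V') ⊤ _) f = _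
  rw [Scheme.Hom.map_appLE]
  rfl

instance isAffineHom_fiberToSpec [IsAffineHom g] : IsAffineHom (g.fiberToSpecResidueField η) :=
  MorphismProperty.pullback_snd g (X.fromSpecResidueField η) ‹_›

theorem finite_fib [IsFinite g] :
    letI := fibAlg g η
    Module.Finite (X.residueField η) Γ(g.fiber η, ⊤) := by
  letI := fibAlg g η
  haveI : IsFinite (g.fiberToSpecResidueField η) :=
    MorphismProperty.pullback_snd g (X.fromSpecResidueField η) ‹_›
  have h1 : (g.fiberToSpecResidueField η).appTop.hom.Finite :=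
    (g.fiberToSpecResidueField η).finite_app ⊤ (isAffineOpen_top _)
  have h2 : (scal g η).Finite :=
    h1.comp (RingHom.Finite.of_surjective _
      (ConcreteCategory.bijective_of_isIso (Scheme.ΓSpecIso (X.residueField η)).inv).2)
  exact h2

/-- The rank of the fibre algebra. -/
def rk : ℕ :=
  letI := fibAlg g η
  Module.finrank (X.residueField η) Γ(g.fiber η, ⊤)

theorem rk_pos [IsFinite g] [Surjective g] : 0 < rk g η := by
  letI := fibAlg g η
  haveI := finite_fib g η
  haveI : IsAffine (g.fiber η) := isAffine_of_isAffineHom (g.fiberToSpecResidueField η)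
  obtain ⟨y, hy⟩ := g.surjective η
  subst hy
  haveI : Nonempty (g.fiber (g y)) := ⟨g.asFiber y⟩
  haveI : Nontrivial Γ(g.fiber (g y), ⊤) :=
    ((g.fiber (g y)).presheaf.germ ⊤ (g.asFiber y) trivial).hom.domain_nontrivial
  exact Module.finrank_pos

/-- The norm of a section, at the point `η`. -/
def nAt (V : X.Opens) (hη : η ∈ V) (f : Γ(X', g ⁻¹ᵁ V)) : X.residueField η :=
  letI := fibAlg g η
  Algebra.norm (X.residueField η) (toFib g η V hη f)

lemma nAt_mul {V : X.Opens} (hη : η ∈ V) (f f' : Γ(X', g ⁻¹ᵁ V)) :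
    nAt g η V hη (f * f') = nAt g η V hη f * nAt g η V hη f' := by
  letI := fibAlg g η
  simp only [nAt, map_mul]

lemma nAt_one {V : X.Opens} (hη : η ∈ V) : nAt g η V hη 1 = 1 := by
  letI := fibAlg g η
  simp only [nAt, map_one]

lemma nAt_app [IsFinite g] {V : X.Opens} (hη : η ∈ V) (c : Γ(X, V)) :
    nAt g η V hη (g.app V c) = X.evaluation V η hη c ^ rk g η := by
  letI := fibAlg g η
  haveI := finite_fib g η
  rw [nAt, toFib_app]
  exact Algebra.norm_algebraMap (S := Γ(g.fiber η, ⊤)) (X.evaluation V η hη c)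

lemma nAt_res {V V' : X.Opens} (h : V' ≤ V) (hη : η ∈ V') (f : Γ(X', g ⁻¹ᵁ V)) :
    nAt g η V' hη (X'.presheaf.map (homOfLE (g.preimage_mono h)).op f) = nAt g η V (h hη) f := by
  simp only [nAt, toFib_res g η h hη f]

variable (D : ℕ)

/-- `N` is the normalised norm of `f`: the prescribed values at all generic points. -/
def IsNm (V : X.Opens) (f : Γ(X', g ⁻¹ᵁ V)) (N : Γ(X, V)) : Prop :=
  ∀ (η : X) (_ : η ∈ gens X) (hη : η ∈ V), X.evaluation V η hη N = nAt g η V hη f ^ (D / rk g η)

theorem eq_of_evaluation_eq [IsReduced X] {V : X.Opens} {a b : Γ(X, V)}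
    (h : ∀ (η : X) (_ : η ∈ gens X) (hη : η ∈ V),
      X.evaluation V η hη a = X.evaluation V η hη b) : a = b := by
  rw [← sub_eq_zero]
  refine eq_zero_of_basicOpen_eq_bot _ (Opens.ext (Set.eq_empty_iff_forall_notMem.mpr fun x hx => ?_))
  obtain ⟨η, hη, hηx⟩ := exists_gen_specializes x
  have hηb : η ∈ X.basicOpen (a - b) := hηx.mem_open (X.basicOpen (a - b)).2 hx
  have hηV : η ∈ V := X.basicOpen_le _ hηb
  have h0 : X.evaluation V η hηV (a - b) = 0 := by rw [map_sub, h η hη hηV, sub_self]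
  exact (Scheme.evaluation_eq_zero_iff_notMem_basicOpen _ η hηV (a - b)).mp h0 hηb

end Groth.Agent.AmpleLib.GenNorm

end
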