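import Groth.Agent.AmpleLib.GenNorm.Basic

/-!
# Norms near a point: integrality, and the locus where a norm is a unit
-/

set_option autoImplicit false
set_option linter.style.haveILetI false
universe u

open CategoryTheory CategoryTheory.Limits AlgebraicGeometry TopologicalSpace

noncomputable section

namespace Groth.Agent.AmpleLib.GenNorm

variable {X X' : Scheme.{u}} (g : X' ⟶ X) {η z : X} (h : η ⤳ z)

/-- Evaluation at `η` on the local ring at a specialization. -/
def evS : X.presheaf.stalk z →+* X.residueField η :=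
  (X.presheaf.stalkSpecializes h ≫ X.residue η).hom

lemma evS_germ {V : X.Opens} (hz : z ∈ V) (c : Γ(X, V)) :
    evS h (X.presheaf.germ V z hz c) = X.evaluation V η (h.mem_open V.2 hz) c := by
  show (X.presheaf.germ V z hz ≫ X.presheaf.stalkSpecializes h ≫ X.residue η) c = _
  rw [X.presheaf.germ_stalkSpecializes_assoc, X.germ_residue]

variable [IsFinite g] {W : X.Opens}

lemma exists_monic (hW : IsAffineOpen W) (f : Γ(X', g ⁻¹ᵁ W)) :
    ∃ p : Polynomial Γ(X, W), p.Monic ∧ p.eval₂ (g.app W).hom f = 0 :=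
  (g.finite_app W hW).to_isIntegral f

lemma eval₂_point {L : Type u} [CommRing L] (ι : X.residueField η →+* L)
    (χ : Γ(g.fiber η, ⊤) →+* L) (hχ : χ.comp (scal g η) = ι) (hz : z ∈ W)
    (p : Polynomial Γ(X, W)) (f : Γ(X', g ⁻¹ᵁ W)) (hp : p.eval₂ (g.app W).hom f = 0) :
    (p.map (X.presheaf.germ W z hz).hom).eval₂ (ι.comp (evS h))
      (χ (toFib g η W (h.mem_open W.2 hz) f)) = 0 := by
  have hf := congrArg (χ.comp (toFib g η W (h.mem_open W.2 hz))) hp
  rw [Polynomial.hom_eval₂, map_zero] at hf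
  rw [Polynomial.eval₂_map]
  refine Eq.trans ?_ hf
  congr 1
  refine RingHom.ext fun c => ?_
  simp only [RingHom.comp_apply]
  rw [toFib_app, evS_germ, ← hχ, RingHom.comp_apply]

theorem isIntegralElem_aux (Ω : Type u) [Field Ω] [Algebra (X.residueField η) Ω] [IsAlgClosed Ω]
    (hW : IsAffineOpen W) (hz : z ∈ W) (f : Γ(X', g ⁻¹ᵁ W)) :
    (evS h).IsIntegralElem (nAt g η W (h.mem_open W.2 hz) f) := by
  letI := fibAlg g η
  haveI := finite_fib g η
  let φ : X.presheaf.stalk z →+* Ω := (algebraMap (X.residueField η) Ω).comp (evS h)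
  letI : Algebra (X.presheaf.stalk z) Ω := φ.toAlgebra
  obtain ⟨q, hqm, hq⟩ : algebraMap (X.residueField η) Ω (nAt g η W (h.mem_open W.2 hz) f) ∈
      (integralClosure (X.presheaf.stalk z) Ω).toSubring := by
    refine norm_mem _ _ fun χ => ?_
    obtain ⟨p, hpm, hp⟩ := exists_monic g hW f
    exact ⟨_, hpm.map _, eval₂_point g h (algebraMap _ Ω) χ.toRingHom χ.comp_algebraMap hz p f hp⟩
  refine ⟨q, hqm, (algebraMap (X.residueField η) Ω).injective ?_⟩
  rw [Polynomial.hom_eval₂, map_zero]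
  exact hq

/-- The norm at `η` is integral over the local ring at a specialization. -/
theorem isIntegralElem_nAt (hW : IsAffineOpen W) (hz : z ∈ W) (f : Γ(X', g ⁻¹ᵁ W)) :
    (evS h).IsIntegralElem (nAt g η W (h.mem_open W.2 hz) f) :=
  isIntegralElem_aux g h (AlgebraicClosure (X.residueField η)) hW hz f

theorem exists_mem_basicOpen_aux (Ω : Type u) [Field Ω] [Algebra (X.residueField η) Ω]
    [IsAlgClosed Ω] [Surjective g] (hW : IsAffineOpen W) (hz : z ∈ W) (f : Γ(X', g ⁻¹ᵁ W))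
    {k : ℕ} (hk : 0 < k) (c : X.presheaf.stalk z) (hc : IsUnit c)
    (hcf : evS h c = nAt g η W (h.mem_open W.2 hz) f ^ k) :
    ∃ y : X', g y = z ∧ y ∈ X'.basicOpen f := by
  by_contra hcon
  push Not at hcon
  letI := fibAlg g η
  haveI := finite_fib g η
  let φ : X.presheaf.stalk z →+* Ω := (algebraMap (X.residueField η) Ω).comp (evS h)
  haveI : Nontrivial φ.range := inferInstance
  let I : Ideal φ.range := (IsLocalRing.maximalIdeal (X.presheaf.stalk z)).map φ.rangeRestrict
  have hker : ∀ a, φ a = 0 → a ∈ IsLocalRing.maximalIdeal (X.presheaf.stalk z) := fun a ha hu =>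
    one_ne_zero (α := Ω) (by
      obtain ⟨b, hb⟩ := isUnit_iff_exists_inv.mp hu
      rw [← map_one φ, ← hb, map_mul, ha, zero_mul])
  have hI : I ≠ ⊤ := fun hI => by
    have h1 := congrArg (Ideal.comap φ.rangeRestrict) hI
    rw [Ideal.comap_map_of_surjective _ φ.rangeRestrict_surjective, Ideal.comap_top] at h1
    refine (IsLocalRing.maximalIdeal.isMaximal _).ne_top (top_le_iff.mp (h1.ge.trans (sup_le le_rfl ?_)))
    intro a ha
    exact hker a (congrArg Subtype.val (Ideal.mem_comap.mp ha))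
  obtain ⟨V, hV, hVI⟩ := Ideal.image_subset_nonunits_valuationSubring I hI
  have hVa : ∀ a, φ a ∈ V := fun a => hV ⟨a, rfl⟩
  have hnon : ∀ a, a ∈ IsLocalRing.maximalIdeal (X.presheaf.stalk z) → φ a ∈ V.nonunits := fun a ha =>
    hVI ⟨_, Ideal.mem_map_of_mem φ.rangeRestrict ha, rfl⟩
  have hunit : ∀ a, φ a ∈ V.nonunits → ¬ IsUnit a := fun a ha hu => by
    obtain ⟨b, hb⟩ := isUnit_iff_exists_inv.mp hu
    rw [ValuationSubring.mem_nonunits_iff] at ha
    have h1 : V.valuation (φ a) * V.valuation (φ b) = 1 := by rw [← map_mul, ← map_mul, hb, map_one, map_one]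
    exact absurd h1 (ne_of_lt ((mul_le_of_le_one_right' ((V.valuation_le_one_iff _).mpr (hVa b))).trans_lt ha))
  refine hunit c ?_ hc
  show algebraMap (X.residueField η) Ω (evS h c) ∈ V.nonunits
  have key : algebraMap (X.residueField η) Ω (nAt g η W (h.mem_open W.2 hz) f) ∈ V.nonunits := by
    refine norm_mem_nonunits V _ (rk_pos g η) fun χ => ?_
    let ψ : Γ(X', g ⁻¹ᵁ W) →+* Ω := χ.toRingHom.comp (toFib g η W (h.mem_open W.2 hz))
    have hψV : ∀ b, ψ b ∈ V := fun b => by
      obtain ⟨p, hpm, hp⟩ := exists_monic g hW b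
      have hi : IsIntegral V (ψ b) := by
        refine ⟨(p.map (X.presheaf.germ W z hz).hom).map (φ.codRestrict V.toSubring hVa),
          (hpm.map _).map _, ?_⟩
        rw [Polynomial.eval₂_map]
        exact eval₂_point g h (algebraMap _ Ω) χ.toRingHom χ.comp_algebraMap hz p b hp
      obtain ⟨v, hv⟩ := IsIntegrallyClosed.isIntegral_iff.mp hi
      exact hv ▸ v.2
    let Q : Ideal Γ(X', g ⁻¹ᵁ W) := (IsLocalRing.maximalIdeal V).comap (ψ.codRestrict V.toSubring hψV)
    have hQp : Q.IsPrime := Ideal.comap_isPrime _ _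
    have hQ : ∀ b, b ∈ Q ↔ ψ b ∈ V.nonunits := fun b => by
      rw [ValuationSubring.mem_nonunits_iff_exists_mem_maximalIdeal]
      exact ⟨fun hb => ⟨hψV b, hb⟩, fun ⟨_, hb⟩ => hb⟩
    let y : X' := (hW.preimage g).fromSpec ⟨Q, hQp⟩
    have hyW : y ∈ g ⁻¹ᵁ W := (hW.preimage g).range_fromSpec.le ⟨_, rfl⟩
    have hy : ∀ b, y ∈ X'.basicOpen b ↔ b ∉ Q := fun b =>
      SetLike.ext_iff.mp ((hW.preimage g).fromSpec_preimage_basicOpen b) ⟨Q, hQp⟩
    have hgy : ∀ a : Γ(X, W), g y ∈ X.basicOpen a ↔ z ∈ X.basicOpen a := fun a => by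
      rw [X.mem_basicOpen a z hz, show g y ∈ X.basicOpen a ↔ y ∈ g ⁻¹ᵁ X.basicOpen a from Iff.rfl,
        Scheme.preimage_basicOpen, hy, hQ]
      show ¬ χ (toFib g η W _ (g.app W a)) ∈ V.nonunits ↔ _
      rw [toFib_app, show χ (scal g η (X.evaluation W η (h.mem_open W.2 hz) a)) =
        φ (X.presheaf.germ W z hz a) from (χ.commutes _).trans (by rw [← evS_germ h hz]; rfl)]
      exact ⟨fun hn => not_not.mp fun hu => hn (hnon _ hu), fun hu hn => hunit _ hn hu⟩
    have hsp : g y = z := by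
      refine (Inseparable.eq (inseparable_iff_forall_isOpen.mpr fun s hs => ?_))
      constructor
      · intro hs'
        obtain ⟨a, hle, hya⟩ := hW.exists_basicOpen_le (V := ⟨s, hs⟩) ⟨g y, hs'⟩ hyW
        exact hle ((hgy a).mp hya)
      · intro hs'
        obtain ⟨a, hle, hza⟩ := hW.exists_basicOpen_le (V := ⟨s, hs⟩) ⟨z, hs'⟩ hz
        exact hle ((hgy a).mpr hza)
    exact (hQ f).mp (not_not.mp fun hf => hcon y hsp ((hy f).mpr hf))
  rw [hcf, map_pow, ValuationSubring.mem_nonunits_iff, map_pow]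
  exact pow_lt_one₀ zero_le (((ValuationSubring.mem_nonunits_iff _).mp key)) hk.ne'

/-- If a power of the norm at `η` comes from a unit at `z`, some point over `z` has `f` invertible. -/
theorem exists_mem_basicOpen [Surjective g] (hW : IsAffineOpen W) (hz : z ∈ W)
    (f : Γ(X', g ⁻¹ᵁ W)) {k : ℕ} (hk : 0 < k) (c : X.presheaf.stalk z) (hc : IsUnit c)
    (hcf : evS h c = nAt g η W (h.mem_open W.2 hz) f ^ k) :
    ∃ y : X', g y = z ∧ y ∈ X'.basicOpen f :=
  exists_mem_basicOpen_aux g h (AlgebraicClosure (X.residueField η)) hW hz f hk c hc hcf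

end Groth.Agent.AmpleLib.GenNorm

end
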