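import Groth.Agent.AmpleLib.GenNorm.Local
import Mathlib.RingTheory.Localization.FractionRing

/-!
# Norms exist near normal points
-/

set_option autoImplicit false
set_option linter.style.haveILetI false
universe u

open CategoryTheory CategoryTheory.Limits AlgebraicGeometry TopologicalSpace

noncomputable section

namespace Groth.Agent.AmpleLib.GenNorm

variable {X X' : Scheme.{u}} {η η' z : X}

theorem gen_unique [IsDomain (X.presheaf.stalk z)] (hη : η ∈ gens X) (hη' : η' ∈ gens X)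
    (h : η ⤳ z) (h' : η' ⤳ z) : η = η' := by
  let o : Spec (X.presheaf.stalk z) := (⟨⊥, Ideal.isPrime_bot⟩ : PrimeSpectrum (X.presheaf.stalk z))
  have key : ∀ ζ ∈ gens X, ζ ⤳ z → ζ = X.fromSpecStalk z o := by
    intro ζ hζ hζz
    obtain ⟨P, hP⟩ : ζ ∈ Set.range (X.fromSpecStalk z) := by rw [Scheme.range_fromSpecStalk]; exact hζz
    have hoP : o ⤳ P := (PrimeSpectrum.le_iff_specializes o P).mp bot_le
    have h0 : X.fromSpecStalk z o ⤳ ζ := hP ▸ hoP.map (X.fromSpecStalk z).continuous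
    have h1 : ζ ⤳ X.fromSpecStalk z o := specializes_iff_mem_closure.mpr
      (hζ.2 isIrreducible_singleton.closure (closure_minimal
        (Set.singleton_subset_iff.mpr (specializes_iff_mem_closure.mp h0)) isClosed_closure)
        (subset_closure rfl))
    exact (h1.antisymm h0).eq
  rw [key η hη h, key η' hη' h']

theorem exists_nbhd_gen [IsNoetherian X] [IsDomain (X.presheaf.stalk z)] (hη : η ∈ gens X) (h : η ⤳ z) :
    ∃ V : X.Opens, z ∈ V ∧ ∀ η' ∈ gens X, η' ∈ V → η' = η := by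
  have hfin : (gens X).Finite := genericPoints.finite NoetherianSpace.finite_irreducibleComponents
  refine ⟨⟨(⋃ ζ ∈ gens X \ {η}, closure {ζ})ᶜ, ((hfin.sdiff).isClosed_biUnion
    fun _ _ => isClosed_closure).isOpen_compl⟩, ?_, fun η' hη' hmem => ?_⟩
  · intro hz
    obtain ⟨ζ, ⟨hζ, hne⟩, hzζ⟩ := Set.mem_iUnion₂.mp hz
    exact hne (gen_unique hζ hη (specializes_iff_mem_closure.mpr hzζ) h)
  · by_contra hne
    exact hmem (Set.mem_iUnion₂.mpr ⟨η', ⟨hη', hne⟩, subset_closure rfl⟩)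

theorem evS_injective [IsNoetherian X] [IsReduced X] [IsDomain (X.presheaf.stalk z)] (hη : η ∈ gens X)
    (h : η ⤳ z) : Function.Injective (evS h) := by
  refine (injective_iff_map_eq_zero _).mpr fun a ha => ?_
  obtain ⟨U, hzU, c, rfl⟩ := X.presheaf.exists_germ_eq a
  obtain ⟨V, hzV, hV⟩ := exists_nbhd_gen hη h
  rw [evS_germ] at ha
  let r : Γ(X, U ⊓ V) := X.presheaf.map (homOfLE (inf_le_left : U ⊓ V ≤ U)).op c
  have hr : r = 0 := eq_of_evaluation_eq fun ζ hζ hζV => by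
    obtain rfl := hV ζ hζ hζV.2
    rw [map_zero]
    show (X.presheaf.map (homOfLE (inf_le_left : U ⊓ V ≤ U)).op ≫ X.evaluation (U ⊓ V) ζ hζV) c = 0
    rw [show X.presheaf.map (homOfLE (inf_le_left : U ⊓ V ≤ U)).op ≫ X.evaluation (U ⊓ V) ζ hζV =
      X.evaluation U ζ hζV.1 by rw [← X.germ_residue, ← X.germ_residue, X.presheaf.germ_res_assoc]]
    exact ha
  have := congrArg (X.presheaf.germ (U ⊓ V) z ⟨hzU, hzV⟩) hr
  rw [map_zero] at this
  rw [← this]
  exact (X.presheaf.germ_res_apply' _ _ _ c).symm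

theorem exists_div (h : η ⤳ z) (a : X.residueField η) :
    ∃ x y : X.presheaf.stalk z, a = evS h x / evS h y := by
  obtain ⟨b, rfl⟩ := X.residue_surjective η a
  obtain ⟨W, hW, hzW, -⟩ := exists_isAffineOpen_mem_and_subset (X := X) (x := z) (U := ⊤) trivial
  have hηW : η ∈ W := h.mem_open W.2 hzW
  letI := X.presheaf.algebra_section_stalk (⟨η, hηW⟩ : W)
  haveI := hW.isLocalization_stalk ⟨η, hηW⟩
  obtain ⟨⟨c, s⟩, hs⟩ := IsLocalization.surj (hW.primeIdealOf ⟨η, hηW⟩).asIdeal.primeCompl b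
  refine ⟨X.presheaf.germ W z hzW c, X.presheaf.germ W z hzW s.1, ?_⟩
  rw [evS_germ, evS_germ, ← X.germ_residue η hηW]
  have hu : IsUnit (X.presheaf.germ W η hηW s.1) :=
    IsLocalization.map_units (X.presheaf.stalk η) s
  have hs' : b * X.presheaf.germ W η hηW s.1 = X.presheaf.germ W η hηW c := hs
  show X.residue η b = X.residue η (X.presheaf.germ W η hηW c) / X.residue η (X.presheaf.germ W η hηW s.1)
  rw [eq_div_iff (hu.map (X.residue η).hom).ne_zero, ← map_mul, hs']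

variable (g : X' ⟶ X) [IsFinite g] (D : ℕ)

/-- Norms exist near normal points. -/
theorem exists_isNm_of_normal [IsNoetherian X] [IsReduced X] [IsDomain (X.presheaf.stalk z)]
    [IsIntegrallyClosed (X.presheaf.stalk z)] {V : X.Opens} (hz : z ∈ V) (f : Γ(X', g ⁻¹ᵁ V)) :
    ∃ (V' : X.Opens) (hle : V' ≤ V) (N : Γ(X, V')), z ∈ V' ∧
      IsNm g D V' (X'.presheaf.map (homOfLE (g.preimage_mono hle)).op f) N := by
  obtain ⟨η, hη, h⟩ := exists_gen_specializes z
  obtain ⟨W, hW, hzW, hWV⟩ := exists_isAffineOpen_mem_and_subset (X := X) (x := z) (U := V) hz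
  have hint := isIntegralElem_nAt g h hW hzW (X'.presheaf.map (homOfLE (g.preimage_mono hWV)).op f)
  rw [nAt_res g η hWV (h.mem_open W.2 hzW)] at hint
  letI : Algebra (X.presheaf.stalk z) (X.residueField η) := (evS h).toAlgebra
  haveI : FaithfulSMul (X.presheaf.stalk z) (X.residueField η) :=
    (faithfulSMul_iff_algebraMap_injective _ _).mpr (evS_injective hη h)
  haveI : IsFractionRing (X.presheaf.stalk z) (X.residueField η) := IsFractionRing.of_field _ _ (exists_div h)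
  obtain ⟨a, ha⟩ := IsIntegrallyClosed.isIntegral_iff.mp
    (show IsIntegral (X.presheaf.stalk z) (nAt g η V (hWV (h.mem_open W.2 hzW)) f) from hint)
  obtain ⟨U, hzU, c, rfl⟩ := X.presheaf.exists_germ_eq a
  obtain ⟨V₀, hzV₀, hV₀⟩ := exists_nbhd_gen hη h
  refine ⟨U ⊓ V ⊓ V₀, inf_le_left.trans inf_le_right,
    (X.presheaf.map (homOfLE (inf_le_left.trans inf_le_left : U ⊓ V ⊓ V₀ ≤ U)).op c) ^ (D / rk g η),
    ⟨⟨hzU, hz⟩, hzV₀⟩, fun ζ hζ hζV => ?_⟩
  obtain rfl := hV₀ ζ hζ hζV.2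
  rw [nAt_res g ζ (inf_le_left.trans inf_le_right) hζV, map_pow]
  congr 1
  show (X.presheaf.map _ ≫ X.evaluation (U ⊓ V ⊓ V₀) ζ hζV) c = _
  rw [show X.presheaf.map (homOfLE (inf_le_left.trans inf_le_left : U ⊓ V ⊓ V₀ ≤ U)).op ≫
      X.evaluation (U ⊓ V ⊓ V₀) ζ hζV = X.evaluation U ζ hζV.1.1 by
    rw [← X.germ_residue, ← X.germ_residue, X.presheaf.germ_res_assoc]]
  rw [← evS_germ h hzU]
  exact ha

end Groth.Agent.AmpleLib.GenNorm

end
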